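import Mathlib
import Cfsg.Agent.Lib.PSolvable.PSolv

/-!
A `p`-solvable group has a `{p,q}`-Hall subgroup through each Sylow `p`-subgroup.
-/

set_option autoImplicit false

open scoped Pointwise

namespace Cfsg.Agent.Lib.AutomizerQ58

open Subgroup Cfsg
open Cfsg.Agent.Lib

universe u

variable {p q : ℕ} [hp : Fact p.Prime] [hq : Fact q.Prime]

theorem exists_pair_hall (hpq : p ≠ q) : ∀ (n : ℕ) {A : Type u} [Group A] [Finite A],
    Nat.card A ≤ n → IsPSolvable p A → ∀ T : Sylow p A,
      ∃ L : Subgroup A, (T : Subgroup A) ≤ L ∧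
        (∀ r : ℕ, r.Prime → r ∣ Nat.card L → r = p ∨ r = q) ∧ ¬ q ∣ L.index := by
  intro n
  induction n with
  | zero => intro A _ _ hn; exact absurd hn (by have := Nat.card_pos (α := A); omega)
  | succ n ih =>
    intro A _ _ hn hsol T
    by_cases htriv : Nat.card A = 1
    · exact ⟨⊤, le_top, fun r hr hd => absurd (hd.trans (by rw [card_top, htriv])) hr.not_dvd_one,
        by rw [index_top]; exact hq.out.not_dvd_one⟩
    have hnt : Nontrivial A := Finite.one_lt_card_iff_nontrivial.1 (by
      have := Nat.card_pos (α := A); omega)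
    obtain ⟨M, hMn, -, hMne, hM⟩ := PSolvable.exists_normal_le_of_isPSolvable (⊤ : Subgroup A)
      bot_lt_top.ne' (PSolvable.isPSolvable_subgroup hsol ⊤)
    have hlt : Nat.card (A ⧸ M) ≤ n := by
      have h1 := Subgroup.card_eq_card_quotient_mul_card_subgroup M
      have h2 : 1 < Nat.card M := (one_lt_card_iff_ne_bot _).2 hMne
      have h3 := Nat.card_pos (α := A ⧸ M)
      nlinarith
    set π := QuotientGroup.mk' M with hπ
    have hπs : Function.Surjective π := QuotientGroup.mk'_surjective M
    obtain ⟨Lb, hTb, hLb, hLbq⟩ := ih hlt (PSolvable.isPSolvable_quotient hsol M) (T.mapSurjective hπs)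
    set Y := Lb.comap π with hY
    have hMY : M ≤ Y := fun m hm => by
      rw [hY, mem_comap, hπ, QuotientGroup.mk'_apply, (QuotientGroup.eq_one_iff m).2 hm]
      exact one_mem _
    have hTY : (T : Subgroup A) ≤ Y := fun t ht => hTb ⟨t, ht, rfl⟩
    have hYidx : Y.index = Lb.index := index_comap_of_surjective _ hπs
    have hYrel : M.relIndex Y = Nat.card Lb := by
      have h1 : M = (⊥ : Subgroup (A ⧸ M)).comap π := by
        rw [MonoidHom.comap_bot, hπ, QuotientGroup.ker_mk']
      calc M.relIndex Y = ((⊥ : Subgroup (A ⧸ M)).comap π).relIndex Y := by rw [← h1]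
        _ = Nat.card Lb := by
          rw [relIndex_comap, hY, map_comap_eq_self_of_surjective hπs, relIndex_bot_left]
    have hYcard : Nat.card Y = Nat.card M * Nat.card Lb := by
      rw [← hYrel, PSolvable.card_mul_relIndex hMY]
    rcases hM with hM | hM
    · refine ⟨Y, hTY, fun r hr hd => ?_, hYidx ▸ hLbq⟩
      rw [hYcard] at hd
      rcases hr.dvd_mul.1 hd with h | h
      · obtain ⟨k, hk⟩ := IsPGroup.iff_card.1 hM
        rw [hk] at h
        exact Or.inl ((Nat.prime_dvd_prime_iff_eq hr hp.out).1 (hr.dvd_of_dvd_pow h))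
      · exact hLb r hr h
    -- the `p'` case
    obtain ⟨Q⟩ : Nonempty (Sylow q M) := inferInstance
    set Q₁ := (Q : Subgroup M).map M.subtype with hQ₁
    set X := Y ⊓ normalizer (Q₁ : Set A) with hX
    have hQX : Q₁ ≤ X := le_inf ((map_subtype_le _).trans hMY) le_normalizer
    have hsup : M ⊔ X = Y := by
      refine le_antisymm (sup_le hMY inf_le_left) fun y hy => ?_
      have hfr := Sylow.normalizer_sup_eq_top Q
      have hmem : y ∈ normalizer (Q₁ : Set A) ⊔ M := by rw [hQ₁, hfr]; exact mem_top _
      rw [sup_comm] at hmem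
      obtain ⟨m, hm, x, hx, rfl⟩ := mem_sup_of_normal_left.1 hmem
      refine mul_mem_sup hm ⟨?_, hx⟩
      have := mul_mem (inv_mem (hMY hm)) hy
      rwa [inv_mul_cancel_left] at this
    have hrelX : (M ⊓ X).relIndex X = Nat.card Lb := by
      rw [inf_relIndex_right, ← hYrel, ← hsup, relIndex_sup_left]
    have hQn : (Q₁.subgroupOf X).Normal := normal_subgroupOf_of_le_normalizer inf_le_right
    set ρ := QuotientGroup.mk' (Q₁.subgroupOf X) with hρ
    set M' := ((M ⊓ X).subgroupOf X).map ρ with hM'
    have hM'n : M'.Normal := by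
      have : ((M ⊓ X).subgroupOf X).Normal := by
        rw [inf_subgroupOf_right]
        infer_instance
      exact this.map _ (QuotientGroup.mk'_surjective _)
    have hQMX : Q₁.subgroupOf X ≤ (M ⊓ X).subgroupOf X := fun z hz => ⟨map_subtype_le _ hz, z.2⟩
    have hM'idx : M'.index = Nat.card Lb := by
      rw [hM', index_map_eq _ (QuotientGroup.mk'_surjective _) (by rw [QuotientGroup.ker_mk']; exact hQMX)]
      exact hrelX
    have hM'card : Nat.card Q₁ * Nat.card M' ∣ Nat.card M := by
      have h1 : Nat.card M' = (Q₁.subgroupOf X).relIndex ((M ⊓ X).subgroupOf X) := by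
        rw [hM', ← relIndex_bot_left, ← map_bot ρ, Subgroup.relIndex_map_map, hρ, QuotientGroup.ker_mk',
          bot_sup_eq, sup_eq_left.2 hQMX]
      rw [h1, relIndex_subgroupOf inf_le_right, PSolvable.card_mul_relIndex
        (le_inf (map_subtype_le _) hQX)]
      exact card_dvd_of_le inf_le_left
    have hcop : (Nat.card M').Coprime M'.index := by
      rw [hM'idx]
      refine Nat.coprime_of_dvd fun r hr h1 h2 => ?_
      rcases hLb r hr h2 with rfl | rfl
      · exact (hp.out.coprime_iff_not_dvd.1 hM.symm) ((h1.trans (dvd_mul_left _ _)).trans hM'card)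
      · have hQc : Nat.card Q₁ = r ^ (Nat.card M).factorization r := by
          rw [hQ₁, card_map_of_injective M.subtype_injective, Q.card_eq_multiplicity]
        have h3 := (mul_dvd_mul_left (Nat.card Q₁) h1).trans hM'card
        rw [hQc, ← pow_succ] at h3
        have := (Nat.Prime.pow_dvd_iff_le_factorization hr (Nat.card_pos (α := M)).ne').1 h3
        omega
    obtain ⟨C, hC⟩ := exists_right_complement'_of_coprime hcop
    set L₀ := (C.comap ρ).map X.subtype with hL₀
    have hL₀card : Nat.card L₀ = Nat.card Q₁ * Nat.card Lb := by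
      have hCc : Nat.card C = Nat.card Lb := by rw [← hM'idx, hC.symm.index_eq_card]
      rw [hL₀, card_map_of_injective X.subtype_injective, PSolvable.card_comap_mk', hCc,
        Nat.card_congr (subgroupOfEquivOfLe hQX).toEquiv]
    have hQ₁c : Nat.card Q₁ = q ^ (Nat.card M).factorization q := by
      rw [hQ₁, card_map_of_injective M.subtype_injective, Q.card_eq_multiplicity]
    have hAc : Nat.card A = Nat.card M * Nat.card Lb * Lb.index := by
      rw [← card_mul_index Y, hYcard, hYidx]
    have hLq : ¬ q ∣ L₀.index := by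
      intro hd
      have h1 : Nat.card L₀ * q ∣ Nat.card A := by
        rw [← card_mul_index L₀]; exact mul_dvd_mul_left _ hd
      rw [hL₀card, hQ₁c, hAc] at h1
      have hne : Nat.card M * Nat.card Lb * Lb.index ≠ 0 := hAc ▸ (Nat.card_pos (α := A)).ne'
      have h2 := (Nat.factorization_le_iff_dvd (by
        have := hq.out.pos; have := Nat.card_pos (α := Lb); positivity) hne).2 h1 q
      have hi : Lb.index.factorization q = 0 := Nat.factorization_eq_zero_of_not_dvd hLbq
      simp only [Nat.factorization_mul (mul_ne_zero (pow_ne_zero _ hq.out.ne_zero)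
          (Nat.card_pos (α := Lb)).ne') hq.out.ne_zero,
        Nat.factorization_mul (pow_ne_zero _ hq.out.ne_zero) (Nat.card_pos (α := Lb)).ne',
        Nat.factorization_mul (mul_ne_zero (Nat.card_pos (α := M)).ne' (Nat.card_pos (α := Lb)).ne')
          Subgroup.index_ne_zero_of_finite,
        Nat.factorization_mul (Nat.card_pos (α := M)).ne' (Nat.card_pos (α := Lb)).ne',
        hq.out.factorization_pow, hq.out.factorization, Finsupp.add_apply, Finsupp.single_eq_same, hi] at h2
      omega
    -- conjugate a Sylow `p`-subgroup of `L₀` to `T`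
    obtain ⟨T₀⟩ : Nonempty (Sylow p L₀) := inferInstance
    have hTp : ¬ p ∣ L₀.index := by
      intro hd
      have h1 : Nat.card L₀ * p ∣ Nat.card A := by
        rw [← card_mul_index L₀]; exact mul_dvd_mul_left _ hd
      rw [hL₀card, hQ₁c, hAc] at h1
      have h2 : Nat.card Lb * p ∣ Nat.card M * Nat.card Lb * Lb.index := by
        refine dvd_trans ?_ h1
        rw [mul_assoc]
        exact dvd_mul_left _ _
      rw [show Nat.card M * Nat.card Lb * Lb.index = Nat.card Lb * (Nat.card M * Lb.index) by ring] at h2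
      have h3 := Nat.dvd_of_mul_dvd_mul_left (Nat.card_pos (α := Lb)) h2
      rcases hp.out.dvd_mul.1 h3 with h | h
      · exact hp.out.coprime_iff_not_dvd.1 hM.symm h
      · exact (T.mapSurjective hπs).not_dvd_index (h.trans (index_dvd_of_le hTb))
    have hT₀i : ¬ p ∣ ((T₀ : Subgroup L₀).map L₀.subtype).index := by
      rw [index_map_subtype]
      exact fun h => (hp.out.dvd_mul.1 h).elim T₀.not_dvd_index hTp
    obtain ⟨g, hg⟩ := MulAction.exists_smul_eq A
      ((T₀.isPGroup'.map L₀.subtype).toSylow hT₀i) T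
    refine ⟨MulAut.conj g • L₀, ?_, fun r hr hd => ?_, ?_⟩
    · rw [← hg, Sylow.coe_subgroup_smul]
      exact pointwise_smul_le_pointwise_smul_iff.2 (map_subtype_le _)
    · rw [Nat.card_congr (equivSMul _ L₀).symm.toEquiv, hL₀card, hQ₁c] at hd
      rcases hr.dvd_mul.1 hd with h | h
      · exact Or.inr ((Nat.prime_dvd_prime_iff_eq hr hq.out).1 (hr.dvd_of_dvd_pow h))
      · exact hLb r hr h
    · rw [show MulAut.conj g • L₀ = L₀.map (MulAut.conj g).toMonoidHom from rfl,
        index_map_of_bijective (f := (MulAut.conj g).toMonoidHom) (MulAut.conj g).bijective]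
      exact hLq

end Cfsg.Agent.Lib.AutomizerQ58
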