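import Mathlib
import Cfsg.Agent.S0618
import Cfsg.Agent.Lib.FusionMod.Basic
import Cfsg.Agent.Lib.Burnside.Paqb
import Cfsg.Agent.Lib.Offenders.CoprimeAction

/-!
In a `{p,q}`-group, `{p,q} ≠ {2,3}`, with trivial `p'`-core some characteristic subgroup of a Sylow
`p`-subgroup is normalised and not centralised by a `q`-element.
-/

set_option autoImplicit false

namespace Cfsg.Agent.Lib.AutomizerQ58

open Subgroup Cfsg
open Cfsg.Agent.Lib

universe u

variable {p q : ℕ} [hp : Fact p.Prime] [hq : Fact q.Prime]

theorem eq_one_of_pgroup (hpq : p ≠ q) {L : Type*} [Group L] {O : Subgroup L} (hO : IsPGroup p O)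
    {y : L} (hy : y ∈ O) {k : ℕ} (hk : y ^ q ^ k = 1) : y = 1 := by
  obtain ⟨m, hm⟩ := hO ⟨y, hy⟩
  have hm' : y ^ p ^ m = 1 := by simpa using congrArg Subtype.val hm
  have h := pow_gcd_eq_one.mpr ⟨hm', hk⟩
  rwa [((Nat.coprime_primes hp.out hq.out).mpr hpq).pow m k, pow_one] at h

theorem eq_one_of_centralises (hpq : p ≠ q) {L : Type*} [Group L] [Finite L] (T : Sylow p L)
    (hCO : centralizer (pCore p L : Set L) ≤ pCore p L) {K : Subgroup L}
    (hTK : (T : Subgroup L) ≤ normalizer (K : Set L))
    (hself : (T : Subgroup L) ⊓ centralizer (K : Set L) ≤ K) {y : L} (hy : y ∈ centralizer (K : Set L))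
    {k : ℕ} (hk : orderOf y = q ^ k) : y = 1 := by
  have hyk : y ^ q ^ k = 1 := hk ▸ pow_orderOf_eq_one y
  refine eq_one_of_pgroup hpq PSolvable.pCore_isPGroup (hCO ?_) hyk
  rw [mem_centralizer_iff]
  intro u hu
  have huT : u ∈ (T : Subgroup L) := PSolvable.pCore_le_sylow T hu
  have hconj : u * y⁻¹ * u⁻¹ ∈ centralizer (K : Set L) := by
    rw [mem_centralizer_iff]
    intro x hx
    have hx' : u⁻¹ * x * u ∈ K := by
      have := ((mem_normalizer_iff.1 (hTK huT)) (u⁻¹ * x * u)).2 (by simpa [mul_assoc] using hx)
      exact this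
    have h := mem_centralizer_iff.1 (inv_mem hy) _ hx'
    calc x * (u * y⁻¹ * u⁻¹) = u * (u⁻¹ * x * u * y⁻¹) * u⁻¹ := by group
      _ = u * (y⁻¹ * (u⁻¹ * x * u)) * u⁻¹ := by rw [h]
      _ = u * y⁻¹ * u⁻¹ * x := by group
  set c := y * (u * y⁻¹ * u⁻¹) with hc
  have hcC : c ∈ centralizer (K : Set L) := mul_mem hy hconj
  have hcO : c ∈ pCore p L := by
    have h1 : y * u * y⁻¹ ∈ pCore p L :=
      (inferInstance : (pCore p L).Normal).conj_mem u hu y
    have := mul_mem h1 (inv_mem hu)
    rwa [hc, show y * (u * y⁻¹ * u⁻¹) = y * u * y⁻¹ * u⁻¹ by group]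
  have hcK : c ∈ K := hself ⟨PSolvable.pCore_le_sylow T hcO, hcC⟩
  have hcomm : Commute y⁻¹ c := (mem_centralizer_iff.1 (inv_mem hy) c hcK).symm
  have hc1 : c ^ q ^ k = 1 := by
    have h1 : (u * y⁻¹ * u⁻¹) ^ q ^ k = 1 := by
      rw [conj_pow, inv_pow, hyk, inv_one, mul_one, mul_inv_cancel]
    rw [show u * y⁻¹ * u⁻¹ = y⁻¹ * c by rw [hc, inv_mul_cancel_left], hcomm.mul_pow, inv_pow, hyk,
      inv_one, one_mul] at h1
    exact h1
  have he := eq_one_of_pgroup hpq PSolvable.pCore_isPGroup hcO hc1
  rw [hc] at he
  have h2 : u * y⁻¹ * u⁻¹ = y⁻¹ := eq_inv_of_mul_eq_one_right he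
  have h3 : u * y * u⁻¹ = y := by
    have := congrArg (·⁻¹) h2
    simpa [mul_assoc] using this
  calc u * y = u * y * u⁻¹ * u := by group
    _ = y * u := by rw [h3]

theorem characteristic_sup {T : Type*} [Group T] (A B : Subgroup T) [hA : A.Characteristic]
    [hB : B.Characteristic] : (A ⊔ B).Characteristic := by
  rw [characteristic_iff_map_eq] at hA hB ⊢
  intro φ
  rw [Subgroup.map_sup, hA φ, hB φ]

theorem not_six_of_primes {n : ℕ} (hpq : p ≠ q) (h23 : ¬ ((p = 2 ∧ q = 3) ∨ (p = 3 ∧ q = 2)))
    (hn : ∀ r : ℕ, r.Prime → r ∣ n → r = p ∨ r = q) : ¬ (2 ∣ n ∧ 3 ∣ n) := by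
  rintro ⟨h2, h3⟩
  rcases hn 2 Nat.prime_two h2 with h | h <;> rcases hn 3 Nat.prime_three h3 with h' | h' <;> omega

/-- The recursion through the central functor. -/
theorem exists_moved (hpq : p ≠ q) (h23 : ¬ ((p = 2 ∧ q = 3) ∨ (p = 3 ∧ q = 2))) :
    ∀ (n : ℕ) {L : Type u} [Group L] [Finite L], Nat.card L ≤ n →
      (∀ r : ℕ, r.Prime → r ∣ Nat.card L → r = p ∨ r = q) → q ∣ Nat.card L → pPrimeCore p L = ⊥ →
      ∀ T : Sylow p L, ∃ K : Subgroup L, K ≤ (T : Subgroup L) ∧
        (K.subgroupOf (T : Subgroup L)).Characteristic ∧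
        ∃ y : L, (∃ k, orderOf y = q ^ k) ∧ y ∈ normalizer (K : Set L) ∧
          y ∉ centralizer (K : Set L) := by
  intro n
  induction n with
  | zero => intro L _ _ hn; exact absurd hn (by have := Nat.card_pos (α := L); omega)
  | succ n ih =>
    intro L _ _ hn hprimes hqL hO T
    have hsol : Group.IsSolvable L := by
      obtain ⟨a, b, hab⟩ : ∃ a b, Nat.card L = p ^ a * q ^ b := by
        refine ⟨(Nat.card L).factorization p, (Nat.card L).factorization q, ?_⟩
        refine Nat.eq_of_factorization_eq (Nat.card_pos (α := L)).ne'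
          (mul_pos (pow_pos hp.out.pos _) (pow_pos hq.out.pos _)).ne' fun r => ?_
        rw [Nat.factorization_mul (pow_pos hp.out.pos _).ne' (pow_pos hq.out.pos _).ne',
          hp.out.factorization_pow, hq.out.factorization_pow, Finsupp.add_apply]
        rcases eq_or_ne r p with rfl | hrp
        · simp [Finsupp.single_apply, Ne.symm hpq]
        rcases eq_or_ne r q with rfl | hrq
        · simp [Finsupp.single_apply, hpq]
        · simp only [Finsupp.single_apply, if_neg (Ne.symm hrp), if_neg (Ne.symm hrq), add_zero]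
          by_contra h
          have hr := (Nat.mem_primeFactors.1 (Nat.support_factorization (Nat.card L) ▸
            Finsupp.mem_support_iff.2 h))
          rcases hprimes r hr.1 hr.2.1 with h' | h'
          · exact hrp h'
          · exact hrq h'
      exact Burnside.isSolvable_of_card_eq_prime_pow_mul hp.out hq.out hab
    have hsep : IsPSolvable p L := PSolvable.isPSolvable_of_isSolvable
    have hCO := PSolvable.centralizer_pCore_le_of_isPSolvable hsep hO
    set J := thompsonSubgroupOf p (T : Subgroup L) with hJ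
    have hJT : J ≤ (T : Subgroup L) := Thompson.thompsonSubgroupOf_le p _
    set R := (T : Subgroup L) ⊓ centralizer (J : Set L) with hR
    set K := J ⊔ R with hK
    have hKT : K ≤ (T : Subgroup L) := sup_le hJT inf_le_left
    have hKchar : (K.subgroupOf (T : Subgroup L)).Characteristic := by
      have hJc : (thompsonSubgroup p ↥(T : Subgroup L)).Characteristic := Thompson.characteristic p _
      have hRe : (centralizer ((thompsonSubgroup p ↥(T : Subgroup L)) : Set ↥(T : Subgroup L))).map
          (T : Subgroup L).subtype = R := by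
        ext x
        constructor
        · rintro ⟨z, hz, rfl⟩
          refine ⟨z.2, mem_centralizer_iff.2 ?_⟩
          rintro _ ⟨w, hw, rfl⟩
          exact congrArg Subtype.val (mem_centralizer_iff.1 hz w hw)
        · rintro ⟨hxT, hx⟩
          exact ⟨⟨x, hxT⟩, mem_centralizer_iff.2 fun w hw => Subtype.ext
            (mem_centralizer_iff.1 hx w ⟨w, hw, rfl⟩), rfl⟩
      have he : K.subgroupOf (T : Subgroup L) = thompsonSubgroup p ↥(T : Subgroup L)
          ⊔ centralizer ((thompsonSubgroup p ↥(T : Subgroup L)) : Set ↥(T : Subgroup L)) := by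
        apply Subgroup.map_injective (T : Subgroup L).subtype_injective
        rw [map_subgroupOf_eq_of_le hKT, Subgroup.map_sup, hRe]
        rfl
      rw [he]
      exact characteristic_sup _ _
    by_cases hqN : q ∣ Nat.card (normalizer (K : Set L))
    · obtain ⟨y, hy⟩ := exists_prime_orderOf_dvd_card' (G := normalizer (K : Set L)) q hqN
      refine ⟨K, hKT, hKchar, y, ⟨1, by rw [Subgroup.orderOf_coe, hy, pow_one]⟩, y.2, fun hyC => ?_⟩
      have hTK : (T : Subgroup L) ≤ normalizer (K : Set L) := by
        have : (K.subgroupOf (T : Subgroup L)).Normal := inferInstance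
        exact le_normalizer_of_normal_subgroupOf hKT
      have h1 := eq_one_of_centralises hpq T hCO hTK (fun x hx => mem_sup_right
        ⟨hx.1, centralizer_le (le_sup_left : J ≤ K) hx.2⟩) hyC
        (k := 1) (by rw [Subgroup.orderOf_coe, hy, pow_one])
      obtain rfl : y = 1 := Subtype.ext h1
      rw [orderOf_one] at hy
      exact hq.out.ne_one hy.symm
    · set Z := omegaOne p ((T : Subgroup L) ⊓ centralizer ((T : Subgroup L) : Set L)) with hZ
      have hZT : Z ≤ (T : Subgroup L) := (Omega.le_self _ _).trans inf_le_left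
      have hZTc : Z ≤ centralizer ((T : Subgroup L) : Set L) := (Omega.le_self _ _).trans inf_le_right
      have hZJ : Z ≤ J := Omega.le_iff.2 fun x hx hxp =>
        Thompson.mem_of_mem_centralizer hx.1 hxp (centralizer_le (by exact hJT) hx.2)
      have hfac : IsThompsonFactorizable p L := by
        by_contra hnf
        obtain ⟨hp23, E, -, -, -, hn', ⟨e⟩⟩ := S0618.result hsep hO hnf
        refine not_six_of_primes hpq h23 hprimes ?_
        have h1 := Offenders.two_three_dvd_card_sl2 hp23
        rw [← Nat.card_congr e.toEquiv] at h1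
        have h2 : Nat.card (↥E ⧸ (centralizer ((⨆ S : Sylow p L, omegaOne p
            ((S : Subgroup L) ⊓ centralizer ((S : Subgroup L) : Set L))) : Set L)).subgroupOf E)
            ∣ Nat.card L :=
          (Subgroup.card_quotient_dvd_card _).trans (Subgroup.card_subgroup_dvd_card E)
        exact ⟨h1.1.trans h2, h1.2.trans h2⟩
      have hNK : ∀ y ∈ normalizer (K : Set L), y ∈ (T : Subgroup L) := by
        have hTK : (T : Subgroup L) ≤ normalizer (K : Set L) := by
          have : (K.subgroupOf (T : Subgroup L)).Normal := inferInstance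
          exact le_normalizer_of_normal_subgroupOf hKT
        have hpN : IsPGroup p (normalizer (K : Set L)) := by
          refine IsPGroup.of_card (n := (Nat.card (normalizer (K : Set L))).primeFactorsList.length) ?_
          refine Nat.eq_prime_pow_of_unique_prime_dvd (Nat.card_pos (α := normalizer (K : Set L))).ne'
            fun {d} hd hdvd => ?_
          rcases hprimes d hd (hdvd.trans (card_subgroup_dvd_card _)) with h | h
          · exact h
          · exact absurd (h ▸ hdvd) hqN
        intro y hy
        exact (T.is_maximal' hpN hTK) ▸ hy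
      have hTJ : (T : Subgroup L) ≤ normalizer (J : Set L) :=
        le_normalizer.trans (Thompson.normalizer_le p _)
      have hcent : ∀ g : L, g ∈ centralizer (Z : Set L) := by
        intro g
        obtain ⟨x, hx, c, hc, m, hm, rfl⟩ := hfac T g
        rw [hO, mem_bot] at hx
        rw [hx, one_mul]
        refine mul_mem hc ?_
        -- Frattini in the normaliser of `J`
        set N := normalizer (J : Set L) with hN
        have hCn : ((centralizer (J : Set L)).subgroupOf N).Normal := inferInstance
        have hfr := FusionMod.frattini_inf (T.subtype hTJ) ((centralizer (J : Set L)).subgroupOf N)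
        have hmem : (⟨m, hm⟩ : N) ∈ _ := hfr.ge (mem_top _)
        rw [sup_comm] at hmem
        obtain ⟨d, hd, y, hy, hdy⟩ := mem_sup_of_normal_left.1 hmem
        have hm' : (d : L) * (y : L) = m := congrArg Subtype.val hdy
        rw [← hm']
        refine mul_mem (centralizer_le hZJ (mem_subgroupOf.1 hd)) ?_
        have hyR : (y : L) ∈ normalizer (R : Set L) := by
          have h1 := le_normalizer_map N.subtype (mem_map_of_mem N.subtype hy)
          have h2 : ((T.subtype hTJ : Subgroup N) ⊓ (centralizer (J : Set L)).subgroupOf N).map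
              N.subtype = R := by
            rw [Sylow.coe_subtype, subgroupOf, subgroupOf, ← comap_inf, ← subgroupOf,
              map_subgroupOf_eq_of_le (inf_le_left.trans hTJ)]
          rwa [h2] at h1
        have hyK : (y : L) ∈ normalizer (K : Set L) := by
          have h1 := mem_normalizer_iff_map_conj_eq.1 hyR
          have h2 := mem_normalizer_iff_map_conj_eq.1 y.2
          rw [mem_normalizer_iff_map_conj_eq, hK, Subgroup.map_sup]
          exact congrArg₂ (· ⊔ ·) h2 h1
        exact le_centralizer_iff.1 hZTc (hNK _ hyK)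
      have hZn : Z.Normal := ⟨fun z hz g => by
        rwa [← mem_centralizer_iff.1 (hcent g) z hz, mul_inv_cancel_right]⟩
      have hZp : IsPGroup p Z := T.isPGroup'.to_le hZT
      have hTne : (T : Subgroup L) ≠ ⊥ := by
        intro h
        have h1 : pCore p L = ⊥ := le_bot_iff.1 (h ▸ PSolvable.pCore_le_sylow T)
        obtain ⟨y, hy⟩ := exists_prime_orderOf_dvd_card' (G := L) q hqL
        have h2 : y ∈ pCore p L := hCO (by rw [h1]; simp [mem_centralizer_iff])
        rw [h1, mem_bot] at h2
        rw [h2, orderOf_one] at hy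
        exact hq.out.ne_one hy.symm
      have hZne : Z ≠ ⊥ := by
        have hnt : Nontrivial ↥(T : Subgroup L) := (nontrivial_iff_ne_bot _).2 hTne
        have hc := T.isPGroup'.center_nontrivial
        have hdvd : p ∣ Nat.card (center ↥(T : Subgroup L)) := by
          obtain ⟨k, hk⟩ := IsPGroup.iff_card.1 (T.isPGroup'.to_subgroup (center ↥(T : Subgroup L)))
          have := Finite.one_lt_card (α := center ↥(T : Subgroup L))
          rw [hk] at this ⊢
          exact dvd_pow_self p (by rintro rfl; simp at this)
        obtain ⟨x, hx⟩ := exists_prime_orderOf_dvd_card' (G := center ↥(T : Subgroup L)) p hdvd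
        have hxZ : ((x : ↥(T : Subgroup L)) : L) ∈ Z := Omega.mem_of_pow_eq_one
          ⟨(x : ↥(T : Subgroup L)).2, mem_centralizer_iff.2 fun w hw =>
            congrArg Subtype.val (mem_center_iff.1 x.2 ⟨w, hw⟩)⟩
          (by
            have := congrArg (fun z : center ↥(T : Subgroup L) => ((z : ↥(T : Subgroup L)) : L))
              (hx ▸ pow_orderOf_eq_one x)
            simpa using this)
        intro h
        rw [h, mem_bot] at hxZ
        rw [show x = 1 from Subtype.ext (Subtype.ext hxZ), orderOf_one] at hx
        exact hp.out.ne_one hx.symm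
      set π := QuotientGroup.mk' Z with hπ
      have hcardlt : Nat.card (L ⧸ Z) ≤ n := by
        have h1 := Subgroup.card_eq_card_quotient_mul_card_subgroup Z
        have h2 : 1 < Nat.card Z := one_lt_card_iff_ne_bot _ |>.2 hZne
        have h3 := Nat.card_pos (α := L ⧸ Z)
        nlinarith
      have hdvdQ : Nat.card (L ⧸ Z) ∣ Nat.card L := card_quotient_dvd_card Z
      have hqQ : q ∣ Nat.card (L ⧸ Z) := by
        rw [Subgroup.card_eq_card_quotient_mul_card_subgroup Z] at hqL
        refine (hq.out.dvd_mul.1 hqL).resolve_right fun h => ?_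
        obtain ⟨k, hk⟩ := IsPGroup.iff_card.1 hZp
        rw [hk] at h
        exact hpq ((Nat.prime_dvd_prime_iff_eq hq.out hp.out).1 (hq.out.dvd_of_dvd_pow h)).symm
      have hOQ : pPrimeCore p (L ⧸ Z) = ⊥ := by
        by_contra hne
        obtain ⟨r, hr, hrd⟩ := Nat.exists_prime_and_dvd
          (fun h => hne (Subgroup.card_eq_one.1 h) :
            Nat.card (pPrimeCore p (L ⧸ Z)) ≠ 1)
        have hrq : r = q := (hprimes r hr (hrd.trans ((card_subgroup_dvd_card _).trans hdvdQ))).resolve_left
          fun h => PSolvable.pPrimeCore_not_dvd (h ▸ hrd)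
        subst hrq
        set M := (pPrimeCore p (L ⧸ Z)).comap π with hM
        obtain ⟨Q₀⟩ : Nonempty (Sylow r M) := inferInstance
        have hZM : Z ≤ M := fun z hz => by
          rw [hM, mem_comap, hπ, QuotientGroup.mk'_apply, (QuotientGroup.eq_one_iff z).2 hz]
          exact one_mem _
        have hQn : (Q₀ : Subgroup M).Normal := by
          refine Sylow.normal_of_normalizerCondition ?_ Q₀
          have hMnil : Group.IsNilpotent M := by
            have hzc : Z.subgroupOf M ≤ center M := fun z hz => mem_center_iff.2 fun g => Subtype.ext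
              (mem_centralizer_iff.1 (hcent g) _ hz).symm
            have hpq' : IsPGroup r ↥(pPrimeCore p (L ⧸ Z)) := by
              refine IsPGroup.of_card (n := (Nat.card ↥(pPrimeCore p (L ⧸ Z))).primeFactorsList.length) ?_
              refine Nat.eq_prime_pow_of_unique_prime_dvd Nat.card_pos.ne' fun {d} hd hdd => ?_
              exact (hprimes d hd (hdd.trans ((card_subgroup_dvd_card _).trans hdvdQ))).resolve_left
                fun h => PSolvable.pPrimeCore_not_dvd (h ▸ hdd)
            have : Group.IsNilpotent ↥(pPrimeCore p (L ⧸ Z)) := hpq'.isNilpotent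
            refine Subgroup.isNilpotent_of_ker_le_center ((π.comp M.subtype).codRestrict
              (pPrimeCore p (L ⧸ Z)) fun m => m.2) (fun m hm => hzc ?_)
            rw [MonoidHom.mem_ker, Subtype.ext_iff] at hm
            exact mem_subgroupOf.2 ((QuotientGroup.eq_one_iff _).1 hm)
          exact Group.normalizerCondition_of_isNilpotent
        have hMn : M.Normal := inferInstance
        have hQc : (Q₀ : Subgroup M).Characteristic := Sylow.characteristic_of_normal Q₀ hQn
        have hQL : ((Q₀ : Subgroup M).map M.subtype).Normal := inferInstance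
        have hle : (Q₀ : Subgroup M).map M.subtype ≤ pPrimeCore p L := by
          refine PSolvable.le_pPrimeCore ?_
          rw [card_map_of_injective M.subtype_injective]
          obtain ⟨k, hk⟩ := IsPGroup.iff_card.1 Q₀.isPGroup'
          rw [hk]
          exact ((Nat.coprime_primes hr hp.out).2 hpq.symm).pow_left k
        have hrM : r ∣ Nat.card M := by
          have := Subgroup.card_range_dvd (π.comp M.subtype)
          refine dvd_trans ?_ this
          rw [MonoidHom.range_comp, range_subtype, hM, map_comap_eq_self_of_surjective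
            (QuotientGroup.mk'_surjective Z)]
          exact hrd
        have hbot : (Q₀ : Subgroup M) = ⊥ := by
          rw [hO, le_bot_iff, map_eq_bot_iff_of_injective _ M.subtype_injective] at hle
          exact hle
        exact Q₀.ne_bot_of_dvd_card hrM hbot
      obtain ⟨K', hK'T, hK'c, y', ⟨k, hk⟩, hyN, hyC⟩ := ih hcardlt
        (fun r hr hd => hprimes r hr (hd.trans hdvdQ)) hqQ hOQ
        (T.mapSurjective (QuotientGroup.mk'_surjective Z))
      -- lift `y'` to a `q`-element
      obtain ⟨y₀, rfl⟩ := QuotientGroup.mk'_surjective Z y'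
      obtain ⟨y, ⟨k', hk'⟩, hπy⟩ : ∃ y : L, (∃ k', orderOf y = q ^ k') ∧ π y = π y₀ := by
        obtain ⟨j, hj⟩ := IsPGroup.iff_card.1 hZp
        have h1 : y₀ ^ q ^ k ∈ Z := by
          rw [← QuotientGroup.eq_one_iff, QuotientGroup.mk_pow, ← QuotientGroup.mk'_apply, ← hk,
            pow_orderOf_eq_one]
        have h2 : y₀ ^ (q ^ k * p ^ j) = 1 := by
          rw [pow_mul]
          have := congrArg Subtype.val (pow_card_eq_one' (x := (⟨_, h1⟩ : Z)))
          rwa [hj] at this
        have hcop : (p ^ j).Coprime (q ^ k) := ((Nat.coprime_primes hp.out hq.out).2 hpq).pow j k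
        rcases Nat.eq_zero_or_pos k with hk0 | hk0
        · subst hk0
          rw [pow_zero, orderOf_eq_one_iff] at hk
          exact ⟨1, ⟨0, by simp⟩, by rw [map_one, hk]⟩
        obtain ⟨e, he⟩ := Nat.exists_mul_mod_eq_one_of_coprime hcop
          (Nat.one_lt_pow hk0.ne' hq.out.one_lt)
        refine ⟨(y₀ ^ p ^ j) ^ e, ?_, ?_⟩
        · have h3 : ((y₀ ^ p ^ j) ^ e) ^ q ^ k = 1 := by
            rw [← pow_mul, ← pow_mul, show p ^ j * (e * q ^ k) = q ^ k * p ^ j * e by ring, pow_mul,
              h2, one_pow]
          obtain ⟨k', -, hk'⟩ := (Nat.dvd_prime_pow hq.out).1 (orderOf_dvd_of_pow_eq_one h3)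
          exact ⟨k', hk'⟩
        · rw [← pow_mul, map_pow, ← pow_mod_orderOf, hk, he.2, pow_one]
      rw [← hπy] at hyN hyC
      refine ⟨K'.comap π ⊓ (T : Subgroup L), inf_le_right, ?_, y, ⟨k', hk'⟩, ?_, ?_⟩
      · constructor
        intro φ
        ext w
        have hker : ∀ w : ↥(T : Subgroup L), (φ w : L) ∈ Z ↔ (w : L) ∈ Z := by
          have hZc : (Z.subgroupOf (T : Subgroup L)).Characteristic := by
            have he : Z.subgroupOf (T : Subgroup L) = omegaOne p (center ↥(T : Subgroup L)) := by
              apply Subgroup.map_injective (T : Subgroup L).subtype_injective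
              rw [map_subgroupOf_eq_of_le hZT, ← Omega.map (T : Subgroup L).subtype_injective, hZ]
              congr 1
              ext z
              constructor
              · rintro ⟨hz1, hz2⟩
                exact ⟨⟨z, hz1⟩, mem_center_iff.2 fun w => Subtype.ext
                  (mem_centralizer_iff.1 hz2 w w.2), rfl⟩
              · rintro ⟨w, hw, rfl⟩
                exact ⟨w.2, mem_centralizer_iff.2 fun v hv =>
                  congrArg Subtype.val (mem_center_iff.1 hw ⟨v, hv⟩)⟩
            rw [he]
            exact Omega.characteristic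
          intro w
          have := congrArg (fun S => w ∈ S) (hZc.fixed φ)
          simpa [mem_subgroupOf] using this
        set T' : Subgroup (L ⧸ Z) :=
          ((T.mapSurjective (QuotientGroup.mk'_surjective Z) : Sylow p (L ⧸ Z)) : Subgroup (L ⧸ Z))
        have hT' : T' = (T : Subgroup L).map π := rfl
        let f : ↥(T : Subgroup L) →* ↥T' := (π.comp (T : Subgroup L).subtype).codRestrict T'
          fun w => by rw [hT']; exact ⟨w, w.2, rfl⟩
        have hfs : Function.Surjective f := by
          rintro ⟨x, hx⟩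
          rw [hT'] at hx
          obtain ⟨w, hw, rfl⟩ := hx
          exact ⟨⟨w, hw⟩, rfl⟩
        have hfk : ∀ w, f w = 1 ↔ (w : L) ∈ Z := fun w => by
          rw [Subtype.ext_iff]; exact QuotientGroup.eq_one_iff _
        have hiff : ∀ w, φ w ∈ f.ker ↔ w ∈ f.ker := fun w => by
          rw [MonoidHom.mem_ker, MonoidHom.mem_ker, hfk, hfk, hker]
        obtain ⟨ψ, hψ⟩ : ∃ ψ : ↥T' ≃* ↥T', ∀ w, ψ (f w) = f (φ w) := by
          have hle : f.ker ≤ (f.comp φ.toMonoidHom).ker := fun w hw => (hiff w).2 hw
          let ψ₀ : ↥T' →* ↥T' := f.liftOfSurjective hfs ⟨f.comp φ.toMonoidHom, hle⟩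
          have h0 : ∀ w, ψ₀ (f w) = f (φ w) := fun w =>
            MonoidHom.liftOfRightInverse_comp_apply f _ _ ⟨f.comp φ.toMonoidHom, hle⟩ w
          refine ⟨MulEquiv.ofBijective ψ₀ ⟨?_, ?_⟩, h0⟩
          · refine (injective_iff_map_eq_one _).2 fun x hx => ?_
            obtain ⟨w, rfl⟩ := hfs x
            rw [h0] at hx
            exact (hiff w).1 hx
          · intro x
            obtain ⟨w, rfl⟩ := hfs x
            exact ⟨f (φ.symm w), by rw [h0, MulEquiv.apply_symm_apply]⟩
        have hfix := congrArg (fun S => f w ∈ S) (hK'c.fixed ψ)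
        simp only [mem_comap, MulEquiv.coe_toMonoidHom, hψ, mem_subgroupOf] at hfix
        simp only [mem_comap, MulEquiv.coe_toMonoidHom, mem_subgroupOf, mem_inf, SetLike.coe_mem, and_true]
        exact Iff.of_eq hfix
      · have hle : K'.comap π ≤ (T : Subgroup L) := fun x hx => by
          obtain ⟨w, hw, he⟩ := hK'T (mem_comap.1 hx)
          have h1 : w⁻¹ * x ∈ Z := (QuotientGroup.eq).1 he
          have := mul_mem hw (hZT h1)
          rwa [mul_inv_cancel_left] at this
        rw [inf_eq_left.2 hle]
        exact le_normalizer_comap π hyN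
      · intro hcy
        refine hyC (mem_centralizer_iff.2 fun x hx => ?_)
        obtain ⟨w, rfl⟩ := QuotientGroup.mk'_surjective Z x
        have hwT : w ∈ (T : Subgroup L) := by
          obtain ⟨v, hv, he⟩ := hK'T hx
          have h1 : v⁻¹ * w ∈ Z := (QuotientGroup.eq).1 he
          have := mul_mem hv (hZT h1)
          rwa [mul_inv_cancel_left] at this
        have h := congrArg π (mem_centralizer_iff.1 hcy w ⟨hx, hwT⟩)
        rwa [map_mul, map_mul] at h

end Cfsg.Agent.Lib.AutomizerQ58
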