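import Mathlib
import Cfsg.Agent.Lib.AutomizerQ58.Step
import Cfsg.Agent.Lib.AutomizerQ58.Pair
import Cfsg.Agent.Lib.Coprime.Quotient

/-!
A prime divisor of the automizer of a `p`-subgroup divides that of a subgroup normal in a Sylow
`p`-subgroup, when all these automizers are `p`-solvable.
-/

set_option autoImplicit false

namespace Cfsg.Agent.Lib.AutomizerQ58

open Subgroup Cfsg
open Cfsg.Agent.Lib
open scoped Pointwise commutatorElement

universe u

variable {p q : ℕ} [hp : Fact p.Prime] [hq : Fact q.Prime] {G : Type u} [Group G]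

/-- Some `q`-element normalises and does not centralise `H`. -/
def HasQ (q : ℕ) (H : Subgroup G) : Prop :=
  ∃ y : G, (∃ k, orderOf y = q ^ k) ∧ y ∈ normalizer (H : Set G) ∧ y ∉ centralizer (H : Set G)

theorem hasQ_iff [Finite G] (H : Subgroup G) :
    HasQ q H ↔ q ∣ ((centralizer (H : Set G)).subgroupOf (normalizer (H : Set G))).index := by
  set N := normalizer (H : Set G)
  set C := (centralizer (H : Set G)).subgroupOf N
  have hCn : C.Normal := inferInstance
  constructor
  · rintro ⟨y, ⟨k, hk⟩, hyN, hyC⟩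
    set y' : N ⧸ C := QuotientGroup.mk' C ⟨y, hyN⟩ with hy'
    have hy1 : y' ≠ 1 := fun h => hyC (mem_subgroupOf.1
      ((QuotientGroup.eq_one_iff (⟨y, hyN⟩ : N)).1 h))
    have hd : orderOf y' ∣ q ^ k := by
      rw [← hk, ← Subgroup.orderOf_mk y hyN]
      exact orderOf_map_dvd _ _
    obtain ⟨j, -, hj⟩ := (Nat.dvd_prime_pow hq.out).1 hd
    have hj0 : j ≠ 0 := by rintro rfl; exact hy1 (orderOf_eq_one_iff.1 (by rw [hj, pow_zero]))
    rw [index_eq_card]
    exact ((dvd_pow_self q hj0).trans (hj ▸ dvd_rfl)).trans (_root_.orderOf_dvd_natCard y')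
  · intro h
    rw [index_eq_card] at h
    obtain ⟨a, ha⟩ := exists_prime_orderOf_dvd_card' (G := N ⧸ C) q h
    obtain ⟨x, rfl⟩ := QuotientGroup.mk'_surjective C a
    obtain ⟨j, m, hm, hx⟩ : ∃ j m, ¬ q ∣ m ∧ orderOf x = q ^ j * m :=
      ⟨_, _, Nat.not_dvd_ordCompl hq.out (orderOf_pos x).ne', (Nat.ordProj_mul_ordCompl_eq_self _ q).symm⟩
    have hne : QuotientGroup.mk' C (x ^ m) ≠ 1 := by
      rw [map_pow, ne_eq, ← orderOf_dvd_iff_pow_eq_one, ha]
      exact hm
    refine ⟨((x ^ m : N) : G), ?_, (x ^ m).2, fun hC => hne ((QuotientGroup.eq_one_iff _).2 hC)⟩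
    have h1 : ((x ^ m : N) : G) ^ q ^ j = 1 := by
      rw [← Subgroup.coe_pow, ← pow_mul, mul_comm, ← hx, pow_orderOf_eq_one, Subgroup.coe_one]
    obtain ⟨k, -, hk⟩ := (Nat.dvd_prime_pow hq.out).1 (orderOf_dvd_of_pow_eq_one h1)
    exact ⟨k, hk⟩

theorem HasQ.conj {H : Subgroup G} (h : HasQ q H) (g : G) : HasQ q (MulAut.conj g • H) := by
  obtain ⟨y, ⟨k, hk⟩, hyN, hyC⟩ := h
  refine ⟨MulAut.conj g y, ⟨k, by rw [MulEquiv.orderOf_eq, hk]⟩, ?_, fun hc => hyC ?_⟩
  · have he : MulAut.conj g • H = H.map (MulAut.conj g).toMonoidHom := rfl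
    rw [he]
    exact le_normalizer_map _ (mem_map_of_mem _ hyN)
  · rw [mem_centralizer_iff]
    intro x hx
    have := mem_centralizer_iff.1 hc (MulAut.conj g x) (smul_mem_pointwise_smul x (MulAut.conj g) H hx)
    rw [← map_mul, ← map_mul] at this
    exact (MulAut.conj g).injective this

/-- The local step. -/
theorem exists_char [Finite G] (hpq : p ≠ q) (h23 : ¬ ((p = 2 ∧ q = 3) ∨ (p = 3 ∧ q = 2)))
    {H : Subgroup G} (hH : IsPGroup p H) (hQ : HasQ q H)
    (hsol : IsPSolvable p (↥(normalizer (H : Set G)) ⧸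
      (centralizer (H : Set G)).subgroupOf (normalizer (H : Set G))))
    : ∀ T₀ : Sylow p (normalizer (H : Set G)),
    ∃ K : Subgroup G, K ≤ (T₀ : Subgroup _).map (normalizer (H : Set G)).subtype ∧
      normalizer (((T₀ : Subgroup _).map (normalizer (H : Set G)).subtype : Subgroup G) : Set G)
        ≤ normalizer (K : Set G) ∧ HasQ q K := by
  set N := normalizer (H : Set G) with hN
  set C := (centralizer (H : Set G)).subgroupOf N with hC
  have hCn : C.Normal := inferInstance
  intro T₀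
  -- `X`, a `p`-solvable supplement of `C`
  set R : Subgroup N := (T₀ : Subgroup N) ⊓ C with hR
  set X := normalizer (R : Set N) with hX
  have hT0X : (T₀ : Subgroup N) ≤ X := by
    intro t ht
    rw [hX, mem_normalizer_iff]
    intro r
    rw [hR, mem_inf, mem_inf]
    exact and_congr ((mem_normalizer_iff.1 (le_normalizer ht)) r)
      ((mem_normalizer_iff.1 ((normalizer_eq_top (H := C)).ge (mem_top t))) r)
  have hfr : X ⊔ C = ⊤ := FusionMod.frattini_inf T₀ C
  have hXsol : IsPSolvable p X := by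
    have hQX : IsPSolvable p (↥X ⧸ C.subgroupOf X) := by
      have hk : ((QuotientGroup.mk' C).comp X.subtype).ker = C.subgroupOf X := by
        ext x
        rw [MonoidHom.mem_ker, mem_subgroupOf]
        exact QuotientGroup.eq_one_iff _
      refine PSolvable.isPSolvable_equiv ?_ (QuotientGroup.quotientMulEquivOfEq hk)
      exact PSolvable.isPSolvable_of_injective hsol
        (QuotientGroup.kerLift ((QuotientGroup.mk' C).comp X.subtype)) (QuotientGroup.kerLift_injective _)
    refine PSolvable.isPSolvable_of_normal (C.subgroupOf X) ?_ hQX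
    set R' := (R.subgroupOf X).subgroupOf (C.subgroupOf X) with hR'
    have hRn : R'.Normal := inferInstance
    have hRp : IsPGroup p R' := by
      have : IsPGroup p R := T₀.isPGroup'.to_le inf_le_left
      exact ((this.comap_of_injective X.subtype X.subtype_injective).comap_of_injective
        (C.subgroupOf X).subtype (C.subgroupOf X).subtype_injective)
    refine PSolvable.isPSolvable_of_quotient R' (Or.inl (IsPGroup.iff_card.1 hRp)) ?_
    refine PSolvable.isPSolvable_of_coprime (Nat.Coprime.symm ((hp.out.coprime_iff_not_dvd).2 ?_))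
    rw [← index_eq_card, hR']
    change ¬ p ∣ (R.subgroupOf X).relIndex (C.subgroupOf X)
    intro hd
    refine FusionMod.not_dvd_relIndex_inf_normal T₀ C (hd.trans ?_)
    rw [← hR, ← inf_subgroupOf_right C X, relIndex_subgroupOf inf_le_right]
    have hle : R ≤ C ⊓ X := le_inf inf_le_right (hT0X.trans' inf_le_left)
    exact Dvd.intro _ (relIndex_mul_relIndex _ _ _ hle inf_le_left)
  obtain ⟨L, hTL, hLpr, hLq⟩ := exists_pair_hall hpq (Nat.card X) le_rfl hXsol (T₀.subtype hT0X)
  -- the order of `L`'s image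
  set L₁ : Subgroup G := (L.map X.subtype).map N.subtype with hL₁
  set f : X →* N ⧸ C := (QuotientGroup.mk' C).comp X.subtype with hf
  have hfs : Function.Surjective f := by
    intro a
    obtain ⟨n, rfl⟩ := QuotientGroup.mk'_surjective C a
    have hn : n ∈ X ⊔ C := hfr ▸ mem_top n
    rw [sup_comm] at hn
    obtain ⟨c, hc, x, hx, rfl⟩ := mem_sup_of_normal_left.1 hn
    refine ⟨⟨x, hx⟩, ?_⟩
    rw [hf, map_mul, show QuotientGroup.mk' C c = 1 from (QuotientGroup.eq_one_iff c).2 hc, one_mul]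
    rfl
  have hqA : q ∣ Nat.card (L.map f) := by
    have h1 : q ∣ Nat.card (N ⧸ C) := index_eq_card C ▸ (hasQ_iff H).1 hQ
    rw [← card_mul_index (L.map f)] at h1
    exact (hq.out.dvd_mul.1 h1).resolve_right fun h => hLq (h.trans (index_map_dvd L hfs))
  -- the reduced group
  have hT₀L : ∀ t ∈ (T₀ : Subgroup N), ∃ l : L, (((l : X) : N)) = t := fun t ht =>
    ⟨⟨⟨t, hT0X ht⟩, hTL (by rw [Sylow.coe_subtype, mem_subgroupOf]; exact ht)⟩, rfl⟩
  set TL : Sylow p L := (T₀.subtype hT0X).subtype hTL with hTLdef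
  have hTLmem : ∀ l : L, l ∈ (TL : Subgroup L) ↔ ((l : X) : N) ∈ (T₀ : Subgroup N) := fun l => by
    rw [hTLdef, Sylow.coe_subtype, mem_subgroupOf, Sylow.coe_subtype, mem_subgroupOf]
  set Q₀ := pPrimeCore p L with hQ₀
  have hQ0q : IsPGroup q Q₀ := by
    refine IsPGroup.of_card (n := (Nat.card Q₀).primeFactorsList.length) ?_
    refine Nat.eq_prime_pow_of_unique_prime_dvd Nat.card_pos.ne' fun {d} hd hdd => ?_
    exact (hLpr d hd (hdd.trans (card_subgroup_dvd_card _))).resolve_left
      fun h => PSolvable.pPrimeCore_not_dvd (h ▸ hdd)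
  set π := QuotientGroup.mk' Q₀ with hπ
  have hπs : Function.Surjective π := QuotientGroup.mk'_surjective Q₀
  let ι : L →* G := N.subtype.comp (X.subtype.comp L.subtype)
  have hι : Function.Injective ι :=
    N.subtype_injective.comp (X.subtype_injective.comp L.subtype_injective)
  have hQ₀C : ∀ x ∈ Q₀, f (x : X) = 1 := by
    intro x hx
    refine (QuotientGroup.eq_one_iff _).2 (mem_subgroupOf.2 (mem_centralizer_iff.2 fun h hh => ?_))
    -- `H` is a normal `p`-subgroup of `L`
    have hHT : H.subgroupOf N ≤ (T₀ : Subgroup N) := by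
      have : (H.subgroupOf N).Normal := normal_in_normalizer
      exact (@PSolvable.le_pCore _ _ p (H.subgroupOf N) this
        (hH.comap_of_injective N.subtype N.subtype_injective)).trans
        (PSolvable.pCore_le_sylow T₀)
    obtain ⟨l, hl⟩ := hT₀L ⟨h, le_normalizer hh⟩ (hHT (mem_subgroupOf.2 hh))
    have hHn : (H.comap ι).Normal := ⟨fun z hz g => by
      rw [mem_comap, map_mul, map_mul, map_inv]
      exact (mem_normalizer_iff.1 ((g : X) : N).2 _).1 hz⟩
    have hHp : IsPGroup p (H.comap ι) := hH.comap_of_injective ι hι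
    have hle := PSolvable.le_pCore hHp
    have hlH : l ∈ H.comap ι := by
      rw [mem_comap]
      show (((l : X) : N) : G) ∈ H
      rw [hl]; exact hh
    have hbot : ⁅pCore p L, Q₀⁆ = ⊥ := PSolvable.commutator_pCore_pPrimeCore
    have hcomm := (commutator_eq_bot_iff_le_centralizer.1 hbot) (hle hlH)
    have h2 := congrArg ι (mem_centralizer_iff.1 hcomm x hx)
    rw [map_mul, map_mul] at h2
    have h3 : ι l = h := congrArg Subtype.val hl
    rw [h3] at h2
    exact h2.symm
  have hqQ : q ∣ Nat.card (L ⧸ Q₀) := by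
    refine hqA.trans ?_
    have hk : Q₀ ≤ (f.comp L.subtype).ker := fun x hx => hQ₀C x hx
    have := Subgroup.card_range_dvd (QuotientGroup.lift Q₀ (f.comp L.subtype) hk)
    have he : (QuotientGroup.lift Q₀ (f.comp L.subtype) hk).range = L.map f := by
      have h1 : ((QuotientGroup.lift Q₀ (f.comp L.subtype) hk).comp π).range
          = (QuotientGroup.lift Q₀ (f.comp L.subtype) hk).range := by
        rw [MonoidHom.range_comp, MonoidHom.range_eq_top.2 hπs, ← MonoidHom.range_eq_map]
      rw [← h1, hπ, QuotientGroup.lift_comp_mk', MonoidHom.range_comp, range_subtype]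
    rwa [he] at this
  obtain ⟨K', hK'T, hK'c, y', ⟨k, hk⟩, hyN, hyC⟩ := exists_moved hpq h23 (Nat.card (L ⧸ Q₀)) le_rfl
    (fun r hr hd => hLpr r hr (hd.trans (card_quotient_dvd_card Q₀))) hqQ
    PSolvable.pPrimeCore_quotient_eq_bot (TL.mapSurjective hπs)
  -- pull back
  set T' : Subgroup (L ⧸ Q₀) := (TL : Subgroup L).map π with hT'
  set K₀ : Subgroup L := (TL : Subgroup L) ⊓ K'.comap π with hK₀
  have hmapK : K₀.map π = K' := by
    refine le_antisymm (map_le_iff_le_comap.2 inf_le_right) fun z hz => ?_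
    obtain ⟨t, ht, rfl⟩ := hK'T hz
    exact ⟨t, ⟨ht, hz⟩, rfl⟩
  have hKsup : K'.comap π = K₀ ⊔ Q₀ := by
    rw [← hmapK, comap_map_eq, hπ, QuotientGroup.ker_mk']
  set K := K₀.map ι with hK
  refine ⟨K, ?_, ?_, ?_⟩
  · rintro _ ⟨x, hx, rfl⟩
    exact ⟨((x : X) : N), (hTLmem x).1 hx.1, rfl⟩
  · set T₁ := (T₀ : Subgroup N).map N.subtype with hT₁
    have hmem : ∀ w : T₁, ∃ l : L, l ∈ (TL : Subgroup L) ∧ ι l = w := by
      rintro ⟨_, ⟨t, ht, rfl⟩⟩
      obtain ⟨l, hl⟩ := hT₀L t ht
      exact ⟨l, (hTLmem l).2 (hl ▸ ht), congrArg Subtype.val hl⟩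
    have hdisj : ∀ l ∈ (TL : Subgroup L), l ∈ Q₀ → l = 1 := fun l hl hl' => by
      have : (TL : Subgroup L) ⊓ Q₀ = ⊥ :=
        PSolvable.inf_eq_bot_of_isPGroup_of_coprime TL.isPGroup' PSolvable.pPrimeCore_coprime
      exact mem_bot.1 (this ▸ ⟨hl, hl'⟩)
    let e₁ : ↥(TL : Subgroup L) →* ↥T₁ := (ι.comp (TL : Subgroup L).subtype).codRestrict T₁
      fun l => ⟨((l : L) : X), (hTLmem l).1 l.2, rfl⟩
    have he₁ : Function.Bijective e₁ := ⟨fun a b h => Subtype.ext (hι (by
        have h' := congrArg (fun w : ↥T₁ => (w : G)) h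
        exact h')),
      fun w => by obtain ⟨l, hl, hlw⟩ := hmem w; exact ⟨⟨l, hl⟩, Subtype.ext hlw⟩⟩
    let e₂ : ↥(TL : Subgroup L) →* ↥T' := π.subgroupMap (TL : Subgroup L)
    have he₂ : Function.Bijective e₂ := ⟨fun a b h => by
      have h' : π (a : L) = π (b : L) := congrArg Subtype.val h
      have h'' := QuotientGroup.eq.1 h'
      exact Subtype.ext (inv_mul_eq_one.1 (hdisj _ (mul_mem (inv_mem a.2) b.2) h'')),
      π.subgroupMap_surjective _⟩
    let e : ↥T₁ ≃* ↥T' := (MulEquiv.ofBijective e₁ he₁).symm.trans (MulEquiv.ofBijective e₂ he₂)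
    have hchar : (K.subgroupOf T₁).Characteristic := by
      have heq : K.subgroupOf T₁ = (K'.subgroupOf T').comap e.toMonoidHom := by
        ext w
        obtain ⟨l, hl, hlw⟩ := hmem w
        have hw : (MulEquiv.ofBijective e₁ he₁).symm w = ⟨l, hl⟩ := by
          rw [MulEquiv.symm_apply_eq]; exact Subtype.ext hlw.symm
        have hew : (e w : L ⧸ Q₀) = π l := by
          simp only [e, MulEquiv.trans_apply, hw]; rfl
        rw [mem_subgroupOf, mem_comap, mem_subgroupOf]
        change _ ↔ (e w : L ⧸ Q₀) ∈ K'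
        rw [hew, ← hlw, hK, mem_map_iff_mem hι, hK₀, mem_inf]
        exact ⟨fun h => h.2, fun h => ⟨hl, h⟩⟩
      have hT'e : T' = ((TL.mapSurjective hπs : Sylow p (L ⧸ Q₀)) : Subgroup (L ⧸ Q₀)) := rfl
      have hc' : (K'.subgroupOf T').Characteristic := hT'e ▸ hK'c
      refine ⟨fun φ => ?_⟩
      ext w
      have h1 := congrArg (fun S => e w ∈ S) (hc'.fixed (e.symm.trans (φ.trans e)))
      simp only [mem_comap, MulEquiv.coe_toMonoidHom, MulEquiv.trans_apply, MulEquiv.symm_apply_apply] at h1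
      simp only [heq, mem_comap, MulEquiv.coe_toMonoidHom]
      exact Iff.of_eq h1
    have hKT₁ : K ≤ T₁ := by
      rintro _ ⟨x, hx, rfl⟩
      exact ⟨((x : X) : N), (hTLmem x).1 hx.1, rfl⟩
    have := Coprime.normalizer_le_normalizer_map_of_characteristic (K.subgroupOf T₁) (hC := hchar)
    rwa [map_subgroupOf_eq_of_le hKT₁] at this
  · obtain ⟨y, rfl⟩ := hπs y'
    set M := normalizer ((K'.comap π : Subgroup L) : Set L) with hM
    have hyM : y ∈ M := le_normalizer_comap π hyN
    have hKM : K'.comap π ≤ M := le_normalizer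
    have hcn : ((K'.comap π).subgroupOf M).Normal := inferInstance
    -- Frattini
    have hK0p : IsPGroup p K₀ := TL.isPGroup'.to_le inf_le_left
    have hidx : ¬ p ∣ K₀.relIndex (K'.comap π) := by
      rw [hKsup]
      intro h
      have h1 : K₀.relIndex (K₀ ⊔ Q₀) ∣ Nat.card Q₀ := by
        refine Nat.dvd_of_mul_dvd_mul_left (Nat.card_pos (α := K₀)) ?_
        rw [PSolvable.card_mul_relIndex le_sup_left,
          ← PSolvable.card_mul_relIndex (le_sup_right : Q₀ ≤ K₀ ⊔ Q₀), sup_comm, relIndex_sup_left,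
          mul_comm (Nat.card K₀)]
        exact mul_dvd_mul_left _ (relIndex_dvd_card _ _)
      exact PSolvable.pPrimeCore_not_dvd (h.trans h1)
    have hK₀le : K₀ ≤ K'.comap π := inf_le_right
    set S : Sylow p ((K'.comap π).subgroupOf M) :=
      (((hK0p.comap_of_injective M.subtype M.subtype_injective).comap_of_injective
        ((K'.comap π).subgroupOf M).subtype (Subtype.val_injective)).toSylow (by
        change ¬ p ∣ (K₀.subgroupOf M).relIndex ((K'.comap π).subgroupOf M)
        rwa [relIndex_subgroupOf hKM])) with hS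
    have hfr := Sylow.normalizer_sup_eq_top S
    have hSmap : (S : Subgroup _).map ((K'.comap π).subgroupOf M).subtype = K₀.subgroupOf M := by
      rw [hS]
      change ((K₀.subgroupOf M).subgroupOf _).map _ = _
      rw [map_subgroupOf_eq_of_le]
      exact comap_mono hK₀le
    rw [hSmap] at hfr
    have hym : (⟨y, hyM⟩ : M) ∈ _ := hfr.ge (mem_top _)
    rw [sup_comm] at hym
    obtain ⟨d, hd, x, hx, hdx⟩ := mem_sup_of_normal_left.1 hym
    have hd' : π (d : L) ∈ K' := hd
    -- `d` may be taken in the kernel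
    have hdd : (d : L) ∈ Q₀ ⊔ K₀ := by rw [sup_comm, ← hKsup]; exact hd
    obtain ⟨d₀, hd₀, k₀, hk₀, hdk⟩ := mem_sup_of_normal_left.1 hdd
    set z : L := k₀ * (x : L) with hz
    have hzN : z ∈ normalizer (K₀ : Set L) := by
      refine mul_mem (le_normalizer hk₀) ?_
      have h1 := le_normalizer_map M.subtype (mem_map_of_mem M.subtype hx)
      rwa [map_subgroupOf_eq_of_le (hK₀le.trans hKM)] at h1
    have hπz : π z = π y := by
      have h0 : (d : L) * (x : L) = y := congrArg Subtype.val hdx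
      rw [← h0, ← hdk, hz, mul_assoc, map_mul π d₀,
        show π d₀ = 1 from (QuotientGroup.eq_one_iff d₀).2 hd₀, one_mul]
    have hzord : ∃ j, orderOf z = q ^ j := by
      have h1 : z ^ q ^ k ∈ Q₀ := by
        rw [← QuotientGroup.eq_one_iff, QuotientGroup.mk_pow, ← QuotientGroup.mk'_apply, ← hπ, hπz, ← hk,
          pow_orderOf_eq_one]
      obtain ⟨m, hm⟩ := hQ0q ⟨_, h1⟩
      have h2 : z ^ q ^ (k + m) = 1 := by
        rw [pow_add, pow_mul]
        simpa using congrArg Subtype.val hm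
      obtain ⟨j, -, hj⟩ := (Nat.dvd_prime_pow hq.out).1 (orderOf_dvd_of_pow_eq_one h2)
      exact ⟨j, hj⟩
    obtain ⟨j, hj⟩ := hzord
    refine ⟨ι z, ⟨j, by rw [orderOf_injective ι hι, hj]⟩, le_normalizer_map ι (mem_map_of_mem ι hzN),
      fun hc => hyC ?_⟩
    rw [← hπz, mem_centralizer_iff]
    intro a ha
    rw [← hmapK] at ha
    obtain ⟨b, hb, rfl⟩ := ha
    have h1 := mem_centralizer_iff.1 hc (ι b) (mem_map_of_mem ι hb)
    rw [← map_mul, ← map_mul] at h1
    rw [← map_mul, ← map_mul, hι h1]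

/-- The main statement. -/
theorem exists_normal_in_sylow [Finite G] (hpq : p ≠ q)
    (h23 : ¬ ((p = 2 ∧ q = 3) ∨ (p = 3 ∧ q = 2)))
    (hsol : ∀ H : Subgroup G, IsPGroup p H → IsPSolvable p (↥(normalizer (H : Set G)) ⧸
      (centralizer (H : Set G)).subgroupOf (normalizer (H : Set G))))
    {H : Subgroup G} (hH : IsPGroup p H) (hQ : HasQ q H) (P : Sylow p G) :
    ∃ K : Subgroup G, K ≤ (P : Subgroup G) ∧ (P : Subgroup G) ≤ normalizer (K : Set G) ∧ HasQ q K := by
  classical
  let S := {K : Subgroup G // IsPGroup p K ∧ HasQ q K}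
  have : Nonempty S := ⟨⟨H, hH, hQ⟩⟩
  obtain ⟨⟨H₁, hH₁, hQ₁⟩, hmax⟩ := Finite.exists_max
    (fun K : S => p ^ (Nat.card (normalizer (K.1 : Set G))).factorization p)
  obtain ⟨T₀⟩ : Nonempty (Sylow p (normalizer (H₁ : Set G))) := inferInstance
  set T₁ := (T₀ : Subgroup _).map (normalizer (H₁ : Set G)).subtype with hT₁
  obtain ⟨K, hKT, hNK, hQK⟩ := exists_char hpq h23 hH₁ hQ₁ (hsol H₁ hH₁) T₀
  have hT₁p : IsPGroup p T₁ := T₀.isPGroup'.map _
  obtain ⟨P₁, hP₁⟩ := hT₁p.exists_le_sylow
  have hKp : IsPGroup p K := hT₁p.to_le hKT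
  have hcT : Nat.card T₁ = p ^ (Nat.card (normalizer (H₁ : Set G))).factorization p := by
    rw [hT₁, card_map_of_injective (normalizer (H₁ : Set G)).subtype_injective, T₀.card_eq_multiplicity]
  have heq : T₁ = (P₁ : Subgroup G) := by
    refine le_antisymm hP₁ fun x hx => ?_
    by_contra hxT
    have hlt : T₁ < (P₁ : Subgroup G) := lt_of_le_of_ne hP₁ fun h => hxT (h ▸ hx)
    have hpg := P₁.isPGroup'
    have : Group.IsNilpotent ↥(P₁ : Subgroup G) := hpg.isNilpotent
    have hgrow := Group.normalizerCondition_of_isNilpotent (T₁.subgroupOf (P₁ : Subgroup G))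
      (lt_top_iff_ne_top.2 fun h => hlt.not_ge (subgroupOf_eq_top.1 h))
    set U := (normalizer ((T₁.subgroupOf (P₁ : Subgroup G) : Subgroup _) : Set ↥(P₁ : Subgroup G))).map
      (P₁ : Subgroup G).subtype with hU
    have hUlt : T₁ < U := by
      have := (map_lt_map_iff_of_injective (P₁ : Subgroup G).subtype_injective).2 hgrow
      rwa [map_subgroupOf_eq_of_le hP₁] at this
    have hUN : U ≤ normalizer (T₁ : Set G) := by
      have := le_normalizer_map (P₁ : Subgroup G).subtype (H := T₁.subgroupOf (P₁ : Subgroup G))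
      rw [map_subgroupOf_eq_of_le hP₁] at this
      exact this
    have hUp : IsPGroup p U := hpg.to_le (map_subtype_le _)
    obtain ⟨u, hu⟩ := IsPGroup.iff_card.1 hUp
    have hule : U ≤ normalizer (K : Set G) := hUN.trans hNK
    have h1 := card_dvd_of_le hule
    rw [hu] at h1
    have h2 := (Nat.Prime.pow_dvd_iff_le_factorization hp.out Nat.card_pos.ne').1 h1
    have h3 := hmax ⟨K, hKp, hQK⟩
    have h4 : Nat.card T₁ < Nat.card U := by
      refine lt_of_le_of_ne (card_le_of_le hUlt.le) fun h => hUlt.ne ?_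
      exact eq_of_le_of_card_ge hUlt.le h.ge
    rw [hcT, hu] at h4
    have h5 := Nat.pow_le_pow_right hp.out.pos h2
    exact absurd h3 (by simp only; omega)
  obtain ⟨g, hg⟩ := MulAction.exists_smul_eq G P₁ P
  have hg' : MulAut.conj g • (P₁ : Subgroup G) = (P : Subgroup G) := by
    rw [← hg, Sylow.coe_subgroup_smul]
  refine ⟨MulAut.conj g • K, ?_, ?_, hQK.conj g⟩
  · rw [← hg']
    exact pointwise_smul_le_pointwise_smul_iff.2 (hKT.trans hP₁)
  · rw [← hg']
    have h0 : (P₁ : Subgroup G) ≤ normalizer (K : Set G) := heq ▸ (le_normalizer.trans hNK)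
    change ((P₁ : Subgroup G).map (MulAut.conj g).toMonoidHom) ≤
      normalizer ((K.map (MulAut.conj g).toMonoidHom : Subgroup G) : Set G)
    exact (map_mono h0).trans (le_normalizer_map _)

end Cfsg.Agent.Lib.AutomizerQ58
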